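import Mathlib

/-!
Matrix transvections `1 + N` with `N` of rank one and square zero: a normal form, the units
commuting with `N`, and their number.
-/

namespace CfsgLib.Transv

open Matrix

variable {F : Type*} [Field F] {ι : Type*} [Fintype ι] [DecidableEq ι] {k : ℕ}

/-- Vectors adapted to a rank one square zero endomorphism. -/
theorem exists_vecs {F V : Type*} [Field F] [AddCommGroup V] [Module F V] [FiniteDimensional F V]
    (f : Module.End F V) (hfr : Module.finrank F (LinearMap.range f) = 1)
    (hff : ∀ x, f (f x) = 0) (hdim : Module.finrank F V = 2 + k) :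
    ∃ vec : Fin 2 ⊕ Fin k → V, LinearIndependent F vec ∧
      f (vec (Sum.inl 0)) = vec (Sum.inl 1) ∧ f (vec (Sum.inl 1)) = 0 ∧
      ∀ i, f (vec (Sum.inr i)) = 0 := by
  classical
  have hker : Module.finrank F (LinearMap.ker f) = 1 + k := by
    have := f.finrank_range_add_finrank_ker
    omega
  obtain ⟨z, hz⟩ : ∃ z, f z ≠ 0 := by
    by_contra hc
    push Not at hc
    rw [show f = 0 from LinearMap.ext hc, LinearMap.range_zero, finrank_bot] at hfr
    exact zero_ne_one hfr
  let K : Submodule F V := LinearMap.ker f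
  let a : K := ⟨f z, LinearMap.mem_ker.2 (hff z)⟩
  have ha : a ≠ 0 := fun h => hz (congrArg Subtype.val h)
  obtain ⟨W, hW⟩ := Submodule.exists_isCompl (F ∙ a)
  have hWdim : Module.finrank F W = k := by
    have h1 := Submodule.finrank_add_eq_of_isCompl hW
    rw [finrank_span_singleton ha, show Module.finrank F K = 1 + k from hker] at h1
    omega
  haveI : Module.Free F W := Module.Free.of_divisionRing F W
  let c : Module.Basis (Fin k) F W := Module.finBasisOfFinrankEq F W hWdim
  have hc0 : ∀ i, f ((c i : K) : V) = 0 := fun i => LinearMap.mem_ker.1 (c i : K).2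
  refine ⟨Sum.elim ![z, f z] fun i => ((c i : K) : V), ?_, by simp, by simpa using hff z,
    fun i => by simpa using hc0 i⟩
  rw [Fintype.linearIndependent_iff]
  intro g hg
  simp only [Fintype.sum_sum_type, Fin.sum_univ_two, Sum.elim_inl, Sum.elim_inr,
    Matrix.cons_val_zero, Matrix.cons_val_one] at hg
  have h1 : g (Sum.inl 0) = 0 := by
    have h := congrArg f hg
    simp only [map_add, map_smul, map_sum, hff, smul_zero, map_zero, add_zero, hc0,
      Finset.sum_const_zero] at h
    exact (smul_eq_zero.1 h).resolve_right hz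
  rw [h1, zero_smul, zero_add] at hg
  generalize hs : (∑ i, g (Sum.inr i) • c i : W) = s
  have hsV : ((s : K) : V) = ∑ i, g (Sum.inr i) • ((c i : K) : V) := by
    rw [← hs, Submodule.coe_sum, Submodule.coe_sum]
    rfl
  have h2 : g (Sum.inl 1) • a + (s : K) = 0 := by
    apply Subtype.ext
    show g (Sum.inl 1) • f z + ((s : K) : V) = 0
    rw [hsV, hg]
  have h3 : (s : K) = 0 := by
    have hmem : (s : K) ∈ F ∙ a := by
      rw [eq_neg_of_add_eq_zero_right h2]
      exact neg_mem (Submodule.smul_mem _ _ (Submodule.mem_span_singleton_self a))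
    exact Submodule.disjoint_def.1 hW.disjoint _ hmem s.2
  have h4 : g (Sum.inl 1) = 0 := by
    rw [h3, add_zero] at h2
    exact (smul_eq_zero.1 h2).resolve_right ha
  rintro (i | i)
  · fin_cases i
    · exact h1
    · exact h4
  · exact Fintype.linearIndependent_iff.1 c.linearIndependent (fun j => g (Sum.inr j))
      (hs.trans (Subtype.ext h3)) i

/-- Normal form of a rank one square zero matrix. -/
theorem exists_normal_form (N : Matrix ι ι F) (hr : N.rank = 1) (h0 : N * N = 0)
    (e : ι ≃ Fin 2 ⊕ Fin k) :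
    ∃ P : (Matrix ι ι F)ˣ,
      N * (P : Matrix ι ι F) =
        (P : Matrix ι ι F) * Matrix.single (e.symm (Sum.inl 1)) (e.symm (Sum.inl 0)) 1 := by
  classical
  obtain ⟨vec, hli, hv0, hv1, hvr⟩ := exists_vecs (k := k) (Matrix.mulVecLin N) hr
    (fun x => by simp only [Matrix.mulVecLin_apply, Matrix.mulVec_mulVec, h0, Matrix.zero_mulVec])
    (by rw [Module.finrank_fintype_fun_eq_card, Fintype.card_congr e]; simp)
  let P0 : Matrix ι ι F := Matrix.of fun i j => vec (e j) i
  have hcol : ∀ j, P0.col j = vec (e j) := fun j => rfl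
  have hP : IsUnit P0 := by
    rw [← Matrix.linearIndependent_cols_iff_isUnit]
    exact hli.comp e e.injective
  refine ⟨hP.unit, ?_⟩
  rw [IsUnit.unit_spec]
  ext i j
  have hcolN : (N * P0) i j = Matrix.mulVecLin N (vec (e j)) i := by
    simp [Matrix.mul_apply, Matrix.mulVec, dotProduct, P0]
  rw [hcolN]
  rcases hj : e j with l | l
  · fin_cases l
    · have hj' : j = e.symm (Sum.inl 0) := by simpa using (e.eq_symm_apply).2 hj
      subst hj'
      simp only [Fin.zero_eta, hv0]
      simp [P0]
    · have hj' : j ≠ e.symm (Sum.inl 0) := fun h => by simp [h] at hj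
      simp only [Fin.mk_one, hv1]
      simp [hj']
  · have hj' : j ≠ e.symm (Sum.inl 0) := fun h => by simp [h] at hj
    simp [hvr, hj']

/-- The standard rank one square zero matrix. -/
def std (F : Type*) [Field F] (k : ℕ) : Matrix (Fin 2 ⊕ Fin k) (Fin 2 ⊕ Fin k) F :=
  Matrix.single (Sum.inl 1) (Sum.inl 0) 1

/-- The general matrix commuting with `std`. -/
def comm (l μ : F) (w ν : Fin k → F) (B : Matrix (Fin k) (Fin k) F) :
    Matrix (Fin 2 ⊕ Fin k) (Fin 2 ⊕ Fin k) F :=
  Matrix.fromBlocks !![l, 0; μ, l] (Matrix.of fun i j => if i = 1 then ν j else 0)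
    (Matrix.of fun i j => if j = 0 then w i else 0) B

omit [Fintype ι] [DecidableEq ι] in
theorem comm_comm (l μ : F) (w ν : Fin k → F) (B : Matrix (Fin k) (Fin k) F) :
    comm l μ w ν B * std F k = std F k * comm l μ w ν B := by
  ext i j
  rcases i with i | i <;> rcases j with j | j <;>
    simp [comm, std, Matrix.mul_apply, Matrix.single, Fintype.sum_sum_type, Fin.sum_univ_two] <;>
    (try fin_cases i) <;> (try fin_cases j) <;> simp

theorem exists_comm {A : Matrix (Fin 2 ⊕ Fin k) (Fin 2 ⊕ Fin k) F}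
    (hA : A * std F k = std F k * A) : ∃ l μ w ν B, A = comm l μ w ν B := by
  refine ⟨A (Sum.inl 0) (Sum.inl 0), A (Sum.inl 1) (Sum.inl 0), fun i => A (Sum.inr i) (Sum.inl 0),
    fun j => A (Sum.inl 1) (Sum.inr j), A.toBlocks₂₂, ?_⟩
  have h := fun i j => congrFun (congrFun hA i) j
  simp only [std, Matrix.mul_apply, Matrix.single, Matrix.of_apply, Fintype.sum_sum_type,
    Fin.sum_univ_two] at h
  ext i j
  rcases i with i | i <;> rcases j with j | j
  · fin_cases i <;> fin_cases j
    · simp [comm]
    · have := h (Sum.inl 0) (Sum.inl 0); simp at this; simp [comm, this]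
    · simp [comm]
    · have := h (Sum.inl 1) (Sum.inl 0); simp at this; simp [comm, this]
  · fin_cases i
    · have := h (Sum.inl 1) (Sum.inr j); simp at this; simp [comm, this]
    · simp [comm]
  · fin_cases j
    · simp [comm]
    · have := h (Sum.inr i) (Sum.inl 0); simp at this; simp [comm, this]
  · simp [comm, Matrix.toBlocks₂₂]

theorem det_comm (l μ : F) (w ν : Fin k → F) (B : Matrix (Fin k) (Fin k) F) :
    (comm l μ w ν B).det = l ^ 2 * B.det := by
  by_cases hl : l = 0
  · subst hl
    rw [zero_pow two_ne_zero, zero_mul]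
    refine Matrix.det_eq_zero_of_row_eq_zero (Sum.inl 0) fun j => ?_
    rcases j with j | j
    · fin_cases j <;> simp [comm]
    · simp [comm]
  · let Y : Matrix (Fin 2) (Fin k) F := Matrix.of fun i j => if i = 1 then l⁻¹ * ν j else 0
    have hfac : comm l μ w ν B =
        Matrix.fromBlocks !![l, 0; μ, l] 0 (Matrix.of fun i j => if j = 0 then w i else 0) B *
          Matrix.fromBlocks 1 Y 0 1 := by
      rw [Matrix.fromBlocks_multiply, comm]
      simp only [Matrix.mul_one, Matrix.mul_zero, add_zero, zero_add, Matrix.zero_mul]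
      congr 1
      · ext i j
        fin_cases i <;> simp [Y, Matrix.mul_apply, Fin.sum_univ_two, mul_inv_cancel_left₀ hl]
      · ext i j
        simp [Y, Matrix.mul_apply, Fin.sum_univ_two]
    rw [hfac, Matrix.det_mul, Matrix.det_fromBlocks_zero₁₂, Matrix.det_fromBlocks_zero₂₁,
      Matrix.det_one, Matrix.det_one, Matrix.det_fin_two_of]
    ring

/-- The number of units commuting with the standard matrix. -/
theorem card_units_comm [Fintype F] :
    Nat.card {A : (Matrix (Fin 2 ⊕ Fin k) (Fin 2 ⊕ Fin k) F)ˣ //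
        (A : Matrix (Fin 2 ⊕ Fin k) (Fin 2 ⊕ Fin k) F) * std F k = std F k * A} =
      (Fintype.card F - 1) * Fintype.card F ^ (2 * k + 1) * Nat.card (GL (Fin k) F) := by
  classical
  let e : Fˣ × (F × (Fin k → F) × (Fin k → F)) × GL (Fin k) F →
      {A : (Matrix (Fin 2 ⊕ Fin k) (Fin 2 ⊕ Fin k) F)ˣ //
        (A : Matrix (Fin 2 ⊕ Fin k) (Fin 2 ⊕ Fin k) F) * std F k = std F k * A} := fun x =>
    ⟨((Matrix.isUnit_iff_isUnit_det (comm (x.1 : F) x.2.1.1 x.2.1.2.1 x.2.1.2.2 x.2.2.1)).2 (by
      rw [det_comm (x.1 : F) x.2.1.1 x.2.1.2.1 x.2.1.2.2 x.2.2.1]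
      exact (x.1.isUnit.pow 2).mul ((Matrix.isUnit_iff_isUnit_det _).1 x.2.2.isUnit))).unit,
      comm_comm _ _ _ _ _⟩
  have he : Function.Bijective e := by
    constructor
    · rintro ⟨l, ⟨μ, w, ν⟩, B⟩ ⟨l', ⟨μ', w', ν'⟩, B'⟩ h
      have h' : comm (l : F) μ w ν B.1 = comm (l' : F) μ' w' ν' B'.1 :=
        congrArg (fun A => (A.1 : Matrix (Fin 2 ⊕ Fin k) (Fin 2 ⊕ Fin k) F)) h
      obtain ⟨h1, h2, h3, h4⟩ := Matrix.fromBlocks_inj.1 h'
      obtain rfl : l = l' := Units.ext (by simpa using congrFun (congrFun h1 0) 0)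
      obtain rfl : μ = μ' := by simpa using congrFun (congrFun h1 1) 0
      obtain rfl : w = w' := funext fun i => by simpa using congrFun (congrFun h3 i) 0
      obtain rfl : ν = ν' := funext fun i => by simpa using congrFun (congrFun h2 1) i
      rw [Units.ext h4]
    · rintro ⟨A, hA⟩
      obtain ⟨l, μ, w, ν, B, hB⟩ := exists_comm hA
      have hd := (Matrix.isUnit_iff_isUnit_det _).1 A.isUnit
      rw [hB, det_comm, IsUnit.mul_iff, isUnit_pow_iff two_ne_zero] at hd
      exact ⟨(hd.1.unit, (μ, w, ν), ((Matrix.isUnit_iff_isUnit_det _).2 hd.2).unit),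
        Subtype.ext (Units.ext hB.symm)⟩
  rw [← Nat.card_eq_of_bijective e he, Nat.card_prod, Nat.card_prod, Nat.card_prod, Nat.card_prod,
    Nat.card_units, Nat.card_fun, Nat.card_eq_fintype_card, Nat.card_fin]
  ring

/-- Units commuting with similar matrices are equinumerous. -/
theorem card_units_comm_congr {R : Type*} [Monoid R] {N S : R} (P : Rˣ)
    (h : N * (P : R) = (P : R) * S) :
    Nat.card {A : Rˣ // (A : R) * N = N * A} = Nat.card {A : Rˣ // (A : R) * S = S * A} := by
  have hN : N = P * S * ((P⁻¹ : Rˣ) : R) := by rw [← h, mul_assoc, Units.mul_inv, mul_one]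
  refine Nat.card_congr (Equiv.subtypeEquiv (MulAut.conj P⁻¹).toEquiv fun A => ?_)
  have key : ∀ B : Rˣ, (B : R) = P⁻¹ * A * P →
      ((A : R) * N = N * A ↔ (B : R) * S = S * B) := by
    intro B hB
    rw [hN, hB]
    constructor
    · intro h'
      have := congrArg (fun x => ((P⁻¹ : Rˣ) : R) * x * P) h'
      simpa [mul_assoc] using this
    · intro h'
      have := congrArg (fun x => (P : R) * x * ((P⁻¹ : Rˣ) : R)) h'
      simpa [mul_assoc] using this
  refine key _ ?_
  simp

end CfsgLib.Transv
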